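import Cfsg.Agent.Mrg.Omega.KL.QF.Frame
import Cfsg.Agent.Mrg.Omega.NO3S.EThree.TPlug
import Cfsg.Agent.Lib.NormalAbelian
import Cfsg.Agent.Mrg.Omega.OM.UniPlus

section


/-!
# The frame `Bg`, `k = 2`: points of `V_P`, the action of `T = C_S(Z i)` (#22723, #22058; helper20)

* `exists_fix_mod` : a 2-group has fixed points modulo a normal subgroup;
* `C_eq`, `ZJ_le` : `C i = W j`, `Z_J = Z i Z j`;
* `ptV` : an element of `V_P` conjugate into `Z i` lies in `W i` or in `W j`; `cjW` : `(W l)^g ≤ V_P` is `W i` or `W j`;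
* `syl_T`, `TB`, `com`, `nB`, `nT` : the fields of `QFr` on `T`.
-/

set_option autoImplicit false
set_option linter.unusedSectionVars false
set_option maxHeartbeats 400000

namespace Cfsg.Agent.Omega.KL.QF.PtV

open Subgroup Cfsg Cfsg.Agent.ZN.ChoiceBase
open Cfsg.Agent.ZN (jj zj bau zc zl o2)
open Cfsg.Agent.ZN.ChoiceSit (Syl exists_syl syl_conj)
open Cfsg.Agent.Omega.OM Cfsg.Agent.Omega.OM.Uni
open Cfsg.Agent.Omega.NO3S.EThree.Frame
open Cfsg.Agent.Omega.MinPar (NonLoc)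
open scoped Pointwise

universe u

variable {G : Type u} [Group G]

/-- A 2-group `X` acting on `T / K` has a fixed point. -/
theorem exists_fix_mod [Finite G] {X K T : Subgroup G} (hX : IsPGroup 2 X) (hT : T ≤ X)
    (hXT : X ≤ normalizer (T : Set G)) (hXK : X ≤ normalizer (K : Set G)) (hne : ¬ T ≤ K) :
    ∃ o ∈ T, o ∉ K ∧ ∀ x ∈ X, x * o * x⁻¹ * o⁻¹ ∈ K := by
  have hf : Fact (Nat.Prime 2) := ⟨Nat.prime_two⟩
  have hKn : (K.subgroupOf X).Normal := normal_subgroupOf_of_le_normalizer hXK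
  have hTn : (T.subgroupOf X).Normal := normal_subgroupOf_of_le_normalizer hXT
  have hQ : IsPGroup 2 (X ⧸ K.subgroupOf X) := hX.to_quotient _
  have hnil : Group.IsNilpotent (X ⧸ K.subgroupOf X) := hQ.isNilpotent
  have hTm : ((T.subgroupOf X).map (QuotientGroup.mk' (K.subgroupOf X))).Normal :=
    hTn.map _ (QuotientGroup.mk'_surjective _)
  have h1 : (T.subgroupOf X).map (QuotientGroup.mk' (K.subgroupOf X)) ≠ ⊥ := by
    intro h0
    apply hne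
    intro t ht
    have h2 : QuotientGroup.mk' (K.subgroupOf X) ⟨t, hT ht⟩ ∈
        (T.subgroupOf X).map (QuotientGroup.mk' (K.subgroupOf X)) := ⟨_, ht, rfl⟩
    rw [h0, mem_bot] at h2
    exact (QuotientGroup.eq_one_iff (⟨t, hT ht⟩ : X)).1 h2
  have h2 := Lib.NormalAbelian.normal_inf_center_ne_bot _ h1
  obtain ⟨⟨x, hx⟩, hx1⟩ := Subgroup.ne_bot_iff_exists_ne_one.1 h2
  obtain ⟨⟨o, ho, hox⟩, hcen⟩ := hx
  refine ⟨o, ho, fun hK => hx1 (Subtype.ext ?_), fun y hy => ?_⟩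
  · change x = 1
    rw [← hox]
    exact (QuotientGroup.eq_one_iff o).2 hK
  · have h3 := mem_center_iff.1 hcen (QuotientGroup.mk' (K.subgroupOf X) ⟨y, hy⟩)
    rw [← hox, ← map_mul, ← map_mul] at h3
    have h4 : QuotientGroup.mk' (K.subgroupOf X) ((⟨y, hy⟩ : X) * o * (⟨y, hy⟩ : X)⁻¹ * o⁻¹) = 1 := by
      rw [map_mul, map_mul, h3, ← map_mul, ← map_mul]
      have e : o * (⟨y, hy⟩ : X) * (⟨y, hy⟩ : X)⁻¹ * o⁻¹ = 1 := by group
      rw [e, map_one]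
    exact mem_subgroupOf.1 ((QuotientGroup.eq_one_iff (N := K.subgroupOf X)
      ((⟨y, hy⟩ : X) * o * (⟨y, hy⟩ : X)⁻¹ * o⁻¹)).1 h4)

section base

variable [Finite G] {S : Sylow 2 G} {P : Subgroup G} {ι : Type} [Finite ι] {B ZJ : Subgroup G}
  {L W Z C : ι → Subgroup G} {q : ℕ} (h : Bg S P B ZJ L W Z C q) {i j : ι} {s : G}
  (p : Pa (S : Subgroup G) W i j s) (h2 : ∀ l : ι, l = i ∨ l = j)

include h

theorem card_W (l : ι) : Nat.card (W l) = q * q := by rw [(h.fr.blk l).card, h.fr.cardZ l]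

theorem comWZ {l m : ι} (hlm : l ≠ m) {x y : G} (hx : x ∈ centralizer (C l : Set G)) (hy : y ∈ W m) :
    x * y * x⁻¹ = y := by
  rw [← mem_centralizer_iff.1 hx y (h.fr.WjC l m hlm hy), mul_inv_cancel_right]

/-- the hypothesis `p` is only used through `j ≠ i` and `s` -/
theorem B_cent (l : ι) : B ≤ centralizer (Z l : Set G) :=
  fun b hb => mem_centralizer_iff.2 fun z hz => ((h.fr.blk l).cZ b hb z hz).symm

theorem B_le_T (l : ι) : B ≤ (S : Subgroup G) ⊓ centralizer (Z l : Set G) := le_inf h.BS (B_cent h l)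

theorem W_le_B (l : ι) : W l ≤ B := (h.fr.blk l).VB

theorem syl_T (l : ι) : Syl ((S : Subgroup G) ⊓ centralizer (Z l : Set G)) (centralizer (Z l : Set G)) := by
  refine ⟨inf_le_right, S.isPGroup'.to_le inf_le_left, fun R hR h3 hle => ?_⟩
  obtain ⟨R', hR', hle'⟩ := exists_syl h3 (hR.trans (centralizer_le_normalizer _))
  obtain ⟨x, hx, e⟩ := syl_conj (h.syl l) hR'
  have h4 : R ≤ cj x ((S : Subgroup G) ⊓ centralizer (Z l : Set G)) := by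
    rw [cj_inf, cj_centralizer, cj_eq_of_mem_normalizer hx]
    refine le_inf ?_ hR
    refine (hle'.trans e.ge).trans (cj_mono x inf_le_left)
  symm
  refine Subgroup.eq_of_le_of_card_ge hle ?_
  rw [← card_cj x ((S : Subgroup G) ⊓ centralizer (Z l : Set G))]
  exact Subgroup.card_le_of_le h4

include h2

theorem C_eq (hij : i ≠ j) : C i = W j := by
  refine le_antisymm ((h.C_le i).trans (iSup_le fun l => ?_)) (h.fr.WjC i j hij)
  rcases h2 l with e | e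
  · exact absurd e l.2
  · rw [e]

theorem ZJ_le (hij : i ≠ j) : ZJ ≤ Z i ⊔ Z j := by
  intro z hz
  obtain ⟨w, hw, c, hc, hcz, rfl⟩ := h.fr.split_ZJ i hz
  rw [C_eq h h2 hij] at hc
  refine mul_mem (mem_sup_left hw) (mem_sup_right ?_)
  exact (h.fr.blk j).toMd.mem_Z_iff.2 ⟨hc, fun b hb => ((h.fr.mem_ZJ c).1 hcz).2 b hb⟩

theorem ZJ_eq (hij : i ≠ j) : ZJ = Z i ⊔ Z j :=
  le_antisymm (ZJ_le h h2 hij) (sup_le (h.fr.Z_le i) (h.fr.Z_le j))

theorem V_eq (hij : i ≠ j) : zl (S : Subgroup G) P = W i ⊔ W j := by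
  refine le_antisymm (fun v hv => ?_) (sup_le (h.fr.WV i) (h.fr.WV j))
  obtain ⟨w, hw, c, hc, rfl⟩ := h.fr.WC i v hv
  rw [C_eq h h2 hij] at hc
  exact mul_mem (mem_sup_left hw) (mem_sup_right hc)

/-- **points of `V_P`** -/
theorem ptV (hij : i ≠ j) {x g : G} (hx : x ∈ zl (S : Subgroup G) P) (hg : g⁻¹ * x * g ∈ Z i) : x ∈ W i ∨ x ∈ W j := by
  obtain ⟨w, hw, c, hc, rfl⟩ := h.fr.WC i x hx
  rw [C_eq h h2 hij] at hc
  by_cases hw1 : w = 1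
  · right; rw [hw1, one_mul]; exact hc
  by_cases hc1 : c = 1
  · left; rw [hc1, mul_one]; exact hw
  exfalso
  obtain ⟨l, -, hlc, z, hz, e⟩ := h.tr i w hw hw1
  obtain ⟨l', -, hlc', z', hz', e'⟩ := h.tr j c hc hc1
  have h3 : l' * z * l'⁻¹ = z := comWZ h hij.symm hlc' ((h.fr.blk i).ZV hz)
  have h4 : l * c * l⁻¹ = c := comWZ h hij hlc hc
  have h5 : (l * l') * (z * z') * (l * l')⁻¹ = w * c := by
    calc (l * l') * (z * z') * (l * l')⁻¹ = l * ((l' * z * l'⁻¹) * (l' * z' * l'⁻¹)) * l⁻¹ := by group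
      _ = l * (z * c) * l⁻¹ := by rw [h3, e']
      _ = (l * z * l⁻¹) * (l * c * l⁻¹) := by group
      _ = w * c := by rw [e, h4]
  have hzz : z * z' ∈ ZJ := mul_mem (h.fr.Z_le i hz) (h.fr.Z_le j hz')
  obtain ⟨m, hm⟩ := h.fus (i := i) (x := z * z') (g := (l * l')⁻¹ * g) hzz (by
    have e1 : ((l * l')⁻¹ * g)⁻¹ * (z * z') * ((l * l')⁻¹ * g) = g⁻¹ * ((l * l') * (z * z') * (l * l')⁻¹) * g := by
      group
    rw [e1, h5]
    exact hg)
  have hbot := h.Z_disj hij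
  rcases h2 m with rfl | rfl
  · have h6 : z' ∈ Z m ⊓ Z j := ⟨((Z m).mul_mem_cancel_left hz).1 hm, hz'⟩
    rw [hbot, mem_bot] at h6
    rw [h6] at e'
    apply hc1
    rw [← e']; group
  · have h6 : z ∈ Z i ⊓ Z m := ⟨hz, ((Z m).mul_mem_cancel_right hz').1 hm⟩
    rw [hbot, mem_bot] at h6
    rw [h6] at e
    apply hw1
    rw [← e]; group

include p

theorem W_pt (l : ι) {x : G} (hx : x ∈ W l) : ∃ g, g⁻¹ * x * g ∈ Z i := by
  by_cases hx1 : x = 1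
  · exact ⟨1, by rw [hx1]; simp [one_mem]⟩
  obtain ⟨m, -, -, z, hz, rfl⟩ := h.tr l x hx hx1
  rcases h2 l with rfl | rfl
  · refine ⟨m, ?_⟩
    have e : m⁻¹ * (m * z * m⁻¹) * m = z := by group
    rwa [e]
  · refine ⟨m * s, ?_⟩
    have e : (m * s)⁻¹ * (m * z * m⁻¹) * (m * s) = s⁻¹ * z * s := by group
    rw [e, ← mem_cj, h.cj_s_Z p]
    exact hz

theorem le_or {A : Subgroup G} (hA : A ≤ zl (S : Subgroup G) P) (hpt : ∀ x ∈ A, ∃ g, g⁻¹ * x * g ∈ Z i) :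
    A ≤ W i ∨ A ≤ W j := by
  by_contra hcon
  push Not at hcon
  obtain ⟨h3, h4⟩ := hcon
  obtain ⟨x, hx, hxi⟩ := SetLike.not_le_iff_exists.1 h3
  obtain ⟨y, hy, hyj⟩ := SetLike.not_le_iff_exists.1 h4
  have key : ∀ x ∈ A, x ∈ W i ∨ x ∈ W j := fun x hx => by
    obtain ⟨g, hg⟩ := hpt x hx
    exact ptV h h2 p.ne (hA hx) hg
  have hxj : x ∈ W j := (key x hx).resolve_left hxi
  have hyi : y ∈ W i := (key y hy).resolve_right hyj
  rcases key (x * y) (mul_mem hx hy) with h5 | h5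
  · exact hxi (((W i).mul_mem_cancel_right hyi).1 h5)
  · exact hyj (((W j).mul_mem_cancel_left hxj).1 h5)

theorem cjW (l : ι) {g : G} (hg : cj g (W l) ≤ zl (S : Subgroup G) P) : cj g (W l) = W i ∨ cj g (W l) = W j := by
  rcases le_or h p h2 hg (fun x hx => by
    obtain ⟨k, hk⟩ := W_pt h p h2 l (mem_cj.1 hx)
    refine ⟨g * k, ?_⟩
    have e : (g * k)⁻¹ * x * (g * k) = k⁻¹ * (g⁻¹ * x * g) * k := by group
    rwa [e]) with h3 | h3
  · left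
    exact Subgroup.eq_of_le_of_card_ge h3 (by rw [card_cj, card_W h, card_W h])
  · right
    exact Subgroup.eq_of_le_of_card_ge h3 (by rw [card_cj, card_W h, card_W h])

/-- an element of `C(Z i)` normalising `V_P` (or mapping `W i` into `V_P`) normalises `W i` -/
theorem cjWi {g : G} (hg : g ∈ centralizer (Z i : Set G)) (hgV : cj g (W i) ≤ zl (S : Subgroup G) P) :
    cj g (W i) = W i := by
  rcases cjW h p h2 i hgV with h3 | h3
  · exact h3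
  exfalso
  apply h.Z_ne i
  rw [eq_bot_iff, ← h.W_disj p.ne]
  refine le_inf (h.fr.blk i).ZV ?_
  rw [← h3]
  intro z hz
  rw [mem_cj]
  have e : g⁻¹ * z * g = z := by
    rw [mul_assoc, mem_centralizer_iff.1 hg z hz]; group
  rw [e]
  exact (h.fr.blk i).ZV hz

/-- an element mapping `W j` into `W j Z i` normalises `W j` -/
theorem cjWj {g : G} (hgV : cj g (W j) ≤ W j ⊔ Z i) :
    cj g (W j) = W j := by
  have hV : W j ⊔ Z i ≤ zl (S : Subgroup G) P := sup_le (h.fr.WV j) (h.fr.ZV i)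
  rcases cjW h p h2 j (hgV.trans hV) with h3 | h3
  · exfalso
    have h4 : W i ≤ Z i := by
      intro x hx
      have h5 := hgV (h3 ▸ hx)
      obtain ⟨w, hw, z, hz, rfl⟩ := SQ1.Bau.mem_sup_comm
        (fun a ha b hb => h.fr.Vc (h.fr.WV j ha) (h.fr.ZV i hb)) h5
      have h6 : w ∈ W i ⊓ W j := ⟨((W i).mul_mem_cancel_right ((h.fr.blk i).ZV hz)).1 hx, hw⟩
      rw [h.W_disj p.ne, mem_bot] at h6
      rw [h6, one_mul]
      exact hz
    have h5 := Subgroup.card_le_of_le h4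
    rw [card_W h, h.fr.cardZ] at h5
    have h6 := (h.fr.blk i).one
    nlinarith
  · exact h3

theorem T_nor : (S : Subgroup G) ⊓ centralizer (Z i : Set G) ≤ (S : Subgroup G) ⊓ normalizer (Z i : Set G) :=
  inf_le_inf_left _ (centralizer_le_normalizer _)

theorem T1 : (S : Subgroup G) ⊓ centralizer (Z i : Set G) ≤ normalizer (Z j : Set G) :=
  (T_nor h p h2).trans ((h.T_le p).trans inf_le_right)

theorem TU0 : (S : Subgroup G) ⊓ centralizer (Z i : Set G) ≤ normalizer (W i : Set G) := by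
  refine (T_nor h p h2).trans ?_
  rw [h.inf_normalizer i]
  exact inf_le_right

theorem TU1 : (S : Subgroup G) ⊓ centralizer (Z i : Set G) ≤ normalizer (W j : Set G) := by
  have h3 : (S : Subgroup G) ⊓ centralizer (Z i : Set G) ≤ (S : Subgroup G) ⊓ normalizer (Z j : Set G) :=
    le_inf inf_le_left (T1 h p h2)
  rw [h.inf_normalizer j] at h3
  exact h3.trans inf_le_right

theorem TB : ((S : Subgroup G) ⊓ centralizer (Z i : Set G)) ⊓ centralizer (Z j : Set G) = B := by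
  conv_rhs => rw [h.eqB, ZJ_eq h h2 p.ne]
  rw [inf_assoc]
  congr 1
  apply le_antisymm
  · rintro x ⟨hx1, hx2⟩
    have h3 : Z i ⊔ Z j ≤ centralizer {x} := by
      refine sup_le (fun z hz => ?_) fun z hz => ?_
      · exact mem_centralizer_singleton_iff.2 (mem_centralizer_iff.1 hx1 z hz)
      · exact mem_centralizer_singleton_iff.2 (mem_centralizer_iff.1 hx2 z hz)
    exact mem_centralizer_iff.2 fun z hz => mem_centralizer_singleton_iff.1 (h3 hz)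
  · exact le_inf (centralizer_le (le_sup_left : Z i ≤ Z i ⊔ Z j)) (centralizer_le (le_sup_right : Z j ≤ Z i ⊔ Z j))

/-- **`[W i, T] ≤ Z i`** -/
theorem com {t : G} (ht : t ∈ (S : Subgroup G) ⊓ centralizer (Z i : Set G)) {x : G} (hx : x ∈ W i) :
    t * x * t⁻¹ * x⁻¹ ∈ Z i := by
  set T : Subgroup G := (S : Subgroup G) ⊓ centralizer (Z i : Set G) with hT
  have hfb := h.fr.blk i
  have hcz : ∀ t ∈ T, ∀ z ∈ Z i, t * z * t⁻¹ = z := fun t ht z hz => by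
    rw [← mem_centralizer_iff.1 ht.2 z hz, mul_inv_cancel_right]
  have hTB : ∀ t ∈ T, ∀ b ∈ B, t * b * t⁻¹ ∈ B := fun t ht b hb =>
    (mem_normalizer_iff.1 (h.S_norm_B ht.1) b).1 hb
  have hTW : ∀ t ∈ T, ∀ w ∈ W i, t * w * t⁻¹ ∈ W i := fun t ht w hw =>
    (mem_normalizer_iff.1 (TU0 h p h2 ht) w).1 hw
  have hne : ¬ W i ≤ Z i := by
    intro h4
    have h5 := Subgroup.card_le_of_le h4
    rw [card_W h, h.fr.cardZ] at h5
    have h6 := hfb.one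
    nlinarith
  obtain ⟨o, ho, hoZ, hfix⟩ := exists_fix_mod (X := T) (T := W i) (K := Z i) (S.isPGroup'.to_le inf_le_left)
    ((W_le_B h i).trans (B_le_T h i)) (TU0 h p h2) (inf_le_right.trans (centralizer_le_normalizer _)) hne
  -- `t = b t'`, `t'` centralises `o`
  obtain ⟨b, hb, -, hbo⟩ := h.root i o ho hoZ _ (hfix t ht)
  have hbT : b ∈ T := B_le_T h i hb
  set t' : G := b⁻¹ * t with ht'
  have ht'T : t' ∈ T := T.mul_mem (inv_mem hbT) ht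
  have ht'o : t' * o * t'⁻¹ = o := by
    have e1 : t * o * t⁻¹ = b * o * b⁻¹ := mul_right_cancel hbo.symm
    calc t' * o * t'⁻¹ = b⁻¹ * (t * o * t⁻¹) * b := by rw [ht']; group
      _ = b⁻¹ * (b * o * b⁻¹) * b := by rw [e1]
      _ = o := by group
  -- `[t', x] ∈ Z i`
  have h3 : t' * x * t'⁻¹ * x⁻¹ ∈ Z i := by
    refine hfb.toMd.mem_Z_iff.2 ⟨mul_mem (hTW t' ht'T x hx) (inv_mem hx), fun c hc => ?_⟩
    -- `c' = t' c t'⁻¹` acts as `c`
    set c' := t' * c * t'⁻¹ with hc'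
    have hc'B : c' ∈ B := hTB t' ht'T c hc
    have e1 : c' * o * c'⁻¹ * o⁻¹ = c * o * c⁻¹ * o⁻¹ := by
      have e2 : c' * o * c'⁻¹ * o⁻¹ = t' * (c * (t'⁻¹ * o * t') * c⁻¹ * (t'⁻¹ * o * t')⁻¹) * t'⁻¹ := by
        rw [hc']; group
      have e3 : t'⁻¹ * o * t' = o := by
        calc t'⁻¹ * o * t' = t'⁻¹ * (t' * o * t'⁻¹) * t' := by rw [ht'o]
          _ = o := by group
      rw [e2, e3]
      exact hcz t' ht'T _ (hfb.com c hc o ho)
    have h4 : (c'⁻¹ * c) * o = o * (c'⁻¹ * c) := by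
      have e2 : c' * o * c'⁻¹ = c * o * c⁻¹ := mul_right_cancel e1
      calc (c'⁻¹ * c) * o = c'⁻¹ * (c * o * c⁻¹) * c := by group
        _ = c'⁻¹ * (c' * o * c'⁻¹) * c := by rw [e2]
        _ = o * (c'⁻¹ * c) := by group
    have h5 := hfb.free (c'⁻¹ * c) (mul_mem (inv_mem hc'B) hc) o ho hoZ h4
    -- `c x c⁻¹ = c' x c'⁻¹` for all `x ∈ W i`
    have h6 : ∀ u ∈ W i, c' * u * c'⁻¹ = c * u * c⁻¹ := by
      intro u hu
      have h7 := h5 u hu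
      calc c' * u * c'⁻¹ = c' * (u * (c'⁻¹ * c)) * c⁻¹ := by group
        _ = c' * ((c'⁻¹ * c) * u) * c⁻¹ := by rw [h7]
        _ = c * u * c⁻¹ := by group
    -- `[c, t' x t'⁻¹] = [c', t' x t'⁻¹] = t' [c, x] t'⁻¹ = [c, x]`
    have h7 : c * (t' * x * t'⁻¹) * c⁻¹ * (t' * x * t'⁻¹)⁻¹ = c * x * c⁻¹ * x⁻¹ := by
      rw [← h6 _ (hTW t' ht'T x hx)]
      have e2 : c' * (t' * x * t'⁻¹) * c'⁻¹ * (t' * x * t'⁻¹)⁻¹ = t' * (c * x * c⁻¹ * x⁻¹) * t'⁻¹ := by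
        rw [hc']; group
      rw [e2]
      exact hcz t' ht'T _ (hfb.com c hc x hx)
    set y := t' * x * t'⁻¹ with hy
    have hyW : y ∈ W i := hTW t' ht'T x hx
    have e2 : c * (y * x⁻¹) * c⁻¹ = y * x⁻¹ := by
      have e3 : c * y * c⁻¹ = (c * x * c⁻¹ * x⁻¹) * y := by
        rw [← h7]; group
      have e4 : c * (y * x⁻¹) * c⁻¹ = (c * y * c⁻¹) * (c * x * c⁻¹)⁻¹ := by group
      have hz := hfb.com c hc x hx
      set z := c * x * c⁻¹ * x⁻¹ with hzd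
      have e5 : c * x * c⁻¹ = z * x := by rw [hzd]; group
      rw [e4, e3, e5]
      have e6 : z * y * (z * x)⁻¹ = z * (y * x⁻¹) * z⁻¹ := by group
      rw [e6, hfb.comm (hfb.ZV hz) (mul_mem hyW (inv_mem hx)), mul_inv_cancel_right]
    exact mul_inv_eq_iff_eq_mul.1 e2
  have e1 : t * x * t⁻¹ * x⁻¹ = b * (t' * x * t'⁻¹ * x⁻¹) * b⁻¹ * (b * x * b⁻¹ * x⁻¹) := by
    rw [ht']; group
  rw [e1, hcz b hbT _ h3]
  exact mul_mem h3 (hfb.com b hb x hx)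

/-- **`C(Z i) ∩ N(B) ≤ N(Z j) ∩ N(W i)`** -/
theorem nB' {g : G} (hg : g ∈ centralizer (Z i : Set G)) (hgB : g ∈ normalizer (B : Set G)) :
    cj g (Z j) = Z j ∧ cj g (W i) = W i := by
  obtain ⟨hV, hZ⟩ := h.nrm g hgB
  refine ⟨?_, cjWi h p h2 hg ((cj_mono g (h.fr.WV i)).trans hV.le)⟩
  obtain ⟨l, hl, -⟩ := hZ j
  rcases h2 l with rfl | rfl
  · exfalso
    have h3 : cj g (Z l) = Z l := cj_eq_of_mem_normalizer (centralizer_le_normalizer _ hg)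
    have h4 : cj g⁻¹ (cj g (Z j)) = cj g⁻¹ (cj g (Z l)) := by rw [hl, h3]
    rw [cj_inv_cj, cj_inv_cj] at h4
    exact p.ne (h.Z_inj h4).symm
  · exact hl

theorem nT' {g : G} (hgT : g ∈ normalizer (((S : Subgroup G) ⊓ centralizer (Z i : Set G) : Subgroup G) : Set G)) :
    g ∈ normalizer (B : Set G) := by
  refine mem_normalizer_iff_cj.2 (h.wc ((S : Subgroup G) ⊓ centralizer (Z i : Set G))
    (S.isPGroup'.to_le inf_le_left) (B_le_T h i) g ?_)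
  have h3 := cj_mono g (B_le_T h i)
  rwa [cj_eq_of_mem_normalizer hgT] at h3

end base

end Cfsg.Agent.Omega.KL.QF.PtV

end

section


/-!
# `QFr` from the frame `Bg`, `k = 2`, any `q` (#22058, #22723; helper20)

* `GenU` : generation by blocks: the minimal parabolics `R` over `T = C_S(Z i)` in `C(Z i)` which move `Z j` are
  `⟨T, L'⟩`, `L'` a natural block with `[V', B] = Z l`, `V' ≤ W l Z_J`;
* `FixU` : `r ∈ R`, `w ∈ W i`, `r w r⁻¹ ∈ O₂(P)`, `[r w r⁻¹, O₂(P)] ≤ Z i` : `r w r⁻¹ ∈ V_P`;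
* `qfr_of` : **`QFr ![Z i, Z j] ![W i, W j] B T`**.
-/

set_option autoImplicit false
set_option linter.unusedSectionVars false
set_option maxHeartbeats 400000

namespace Cfsg.Agent.Omega.KL.QF.OfBg

open Subgroup Cfsg Cfsg.Agent.ZN.ChoiceBase
open Cfsg.Agent.ZN (jj zj bau zc zl o2)
open Cfsg.Agent.ZN.ChoiceSit (Syl exists_syl syl_conj)
open Cfsg.Agent.Omega.OM Cfsg.Agent.Omega.OM.Uni
open Cfsg.Agent.Omega.OM.UniPlus (NB)
open Cfsg.Agent.Omega.NO3S.EThree.Frame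
open Cfsg.Agent.Omega.MinPar (NonLoc)
open Cfsg.Agent.MinSimple.MinParabolic (IsMinPar)
open PtV
open scoped Pointwise

universe u

variable {G : Type u} [Group G]

/-- The minimal parabolics over `T = C_S(Z i)` in `C(Z i)` which move `Z j` are `⟨T, L'⟩`, `L'` a block. -/
def GenU (S : Subgroup G) (B ZJ : Subgroup G) {ι : Type} (W Z : ι → Subgroup G) (q : ℕ) (i j : ι) : Prop :=
  ∀ R : Subgroup G, IsMinPar (S ⊓ centralizer (Z i : Set G)) R → R ≤ centralizer (Z i : Set G) →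
    ¬ R ≤ normalizer (Z j : Set G) → ∃ (L' V' : Subgroup G) (l : ι), L' ≤ R ∧
      R ≤ (S ⊓ centralizer (Z i : Set G)) ⊔ L' ∧ NB B L' V' (Z l) q ∧ V' ≤ W l ⊔ ZJ

/-- FIX for the conjugates of `W i` in `C(Z i)`. -/
def FixU (S P : Subgroup G) {ι : Type} (W Z : ι → Subgroup G) (i j : ι) : Prop :=
  ∀ R : Subgroup G, IsMinPar (S ⊓ centralizer (Z i : Set G)) R → R ≤ centralizer (Z i : Set G) →
    ¬ R ≤ normalizer (Z j : Set G) → ∀ r ∈ R, ∀ w ∈ W i, r * w * r⁻¹ ∈ o2 P →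
      (∀ b ∈ o2 P, r * w * r⁻¹ * b * (r * w * r⁻¹)⁻¹ * b⁻¹ ∈ Z i) → r * w * r⁻¹ ∈ zl S P

section

variable [Finite G] {S : Sylow 2 G} {P : Subgroup G} {ι : Type} [Finite ι] {B ZJ : Subgroup G}
  {L W Z C : ι → Subgroup G} {q : ℕ} (h : Bg S P B ZJ L W Z C q) {i j : ι} {s : G}
  (p : Pa (S : Subgroup G) W i j s) (h2 : ∀ l : ι, l = i ∨ l = j)
  (hTI : TI (Z i))
  (hnl : NonLoc (normalizer (Z i : Set G)) (normalizer (Z j : Set G)))
include h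

include hTI in
/-- (TI) -/
theorem ti {a b : Subgroup G} (ha : PG.IsPt ![Z i, Z j] a) (hb : PG.IsPt ![Z i, Z j] b) {x : G} (hx : x ∈ a)
    (hx' : x ∈ b) (hx1 : x ≠ 1) : a = b := by
  obtain ⟨k, rfl⟩ := ha
  obtain ⟨l, rfl⟩ := hb
  have h1 : cj (l⁻¹ * k) (Z i) = Z i := by
    apply hTI
    intro hbot
    have h3 : l⁻¹ * x * l ∈ cj (l⁻¹ * k) (Z i) ⊓ Z i := by
      refine mem_inf.2 ⟨?_, mem_cj.1 hx'⟩
      rw [mem_cj]
      have e : (l⁻¹ * k)⁻¹ * (l⁻¹ * x * l) * (l⁻¹ * k) = k⁻¹ * x * k := by group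
      rw [e]
      exact mem_cj.1 hx
    rw [hbot, mem_bot] at h3
    apply hx1
    have e : x = l * (l⁻¹ * x * l) * l⁻¹ := by group
    rw [e, h3]; group
  have h3 := congrArg (cj l) h1
  rw [cj_cj, mul_inv_cancel_left] at h3
  exact h3

omit h in
theorem pti : PG.IsPt ![Z i, Z j] (Z i) := ⟨1, by rw [map_one, one_smul]; rfl⟩

include p in
theorem ptj : PG.IsPt ![Z i, Z j] (Z j) := ⟨s, (h.cj_s_Z p).symm⟩

include h2 in
theorem U1N (hij : i ≠ j) : W j ≤ PG.NN ![Z i, Z j] (Z i) := by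
  intro x hx
  by_cases hx1 : x = 1
  · rw [hx1]; exact one_mem _
  obtain ⟨l, -, hlc, z, hz, rfl⟩ := h.tr j x hx hx1
  have h3 : l ∈ centralizer (Z i : Set G) :=
    centralizer_le ((h.fr.blk i).ZV.trans (h.fr.WjC j i hij.symm)) hlc
  have h4 : PG.Adj ![Z i, Z j] (Z i) (cj l (Z j)) := by
    refine ⟨l, ?_, rfl⟩
    exact (cj_eq_of_mem_normalizer (centralizer_le_normalizer _ h3)).symm
  exact h4.le_NN ⟨z, hz, rfl⟩

theorem pts {x : G} (hx : x ∈ W i) (hx1 : x ≠ 1) : ∃ a, PG.IsPt ![Z i, Z j] a ∧ x ∈ a ∧ a ≤ W i := by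
  obtain ⟨l, hl, hlc, z, hz, rfl⟩ := h.tr i x hx hx1
  refine ⟨cj l (Z i), ⟨l, rfl⟩, ⟨z, hz, rfl⟩, ?_⟩
  rw [← h.fix hl hlc i]
  exact cj_mono l (h.fr.blk i).ZV

include hTI in
theorem prod {a : Subgroup G} (ha : PG.IsPt ![Z i, Z j] a) (haW : a ≤ W i) (hne : a ≠ Z i) : W i ≤ Z i ⊔ a := by
  have h3 : Z i ⊓ a = ⊥ := by
    rw [eq_bot_iff]
    rintro x ⟨hx, hx'⟩
    by_contra hx1
    exact hne (ti h hTI (i := i) (j := j) ha pti hx' hx hx1)
  have h4 : Nat.card a = q := by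
    obtain ⟨k, rfl⟩ := ha
    rw [← h.fr.cardZ i]
    exact card_cj k (Z i)
  have h5 := SQ1.Bau.card_sup_comm (A := Z i) (B := a)
    fun x hx y hy => (h.fr.blk i).comm ((h.fr.blk i).ZV hx) (haW hy)
  rw [h3, card_bot, mul_one, h4, h.fr.cardZ] at h5
  exact (Subgroup.eq_of_le_of_card_ge (sup_le (h.fr.blk i).ZV haW) (by rw [h5, card_W h])).ge

/-! ### UNI -/

include p h2 in
/-- `R ≤ N(W j)` and `V' = W j` -/
theorem uni_a {R L' V' : Subgroup G} {l : ι} (hRC : R ≤ centralizer (Z i : Set G))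
    (hLR : L' ≤ R) (hR : R ≤ ((S : Subgroup G) ⊓ centralizer (Z i : Set G)) ⊔ L') (hb : NB B L' V' (Z l) q)
    (hV : V' ≤ W l ⊔ ZJ) : R ≤ normalizer (W j : Set G) ∧ l = j ∧ V' = W j := by
  have hZi : ∀ z ∈ Z i, (∀ x ∈ L', x * z = z * x) := fun z hz x hx =>
    (mem_centralizer_iff.1 (hRC (hLR hx)) z hz).symm
  have hl : l = j := by
    rcases h2 l with rfl | rfl
    · exfalso
      apply h.Z_ne l
      rw [eq_bot_iff]
      intro z hz
      exact mem_bot.2 (hb.cent hz (hZi z hz))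
    · rfl
  subst hl
  set Y : Subgroup G := W l ⊔ Z i with hY
  have hVY : V' ≤ Y := by
    refine hV.trans ?_
    rw [ZJ_eq h h2 p.ne]
    exact sup_le le_sup_left (sup_le le_sup_right ((h.fr.blk l).ZV.trans le_sup_left))
  have hYV : Y ≤ zl (S : Subgroup G) P := sup_le (h.fr.WV l) (h.fr.ZV i)
  have hcardY : Nat.card Y = q * q * q := by
    have h3 := SQ1.Bau.card_sup_comm (A := W l) (B := Z i) fun a ha b hb => h.fr.Vc (h.fr.WV l ha) (h.fr.ZV i hb)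
    have h4 : W l ⊓ Z i = ⊥ := by
      rw [eq_bot_iff, ← h.W_disj p.ne]
      exact le_inf (inf_le_right.trans (h.fr.blk i).ZV) inf_le_left
    rwa [h4, card_bot, mul_one, card_W h, h.fr.cardZ] at h3
  have hYV' : Y = V' ⊔ Z i := by
    symm
    refine Subgroup.eq_of_le_of_card_ge (sup_le hVY le_sup_right) ?_
    have h3 := SQ1.Bau.card_sup_comm (A := V') (B := Z i)
      fun a ha b hb => h.fr.Vc (hYV (hVY ha)) (h.fr.ZV i hb)
    have h4 : V' ⊓ Z i = ⊥ := by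
      rw [eq_bot_iff]
      rintro x ⟨hx, hx'⟩
      refine mem_bot.2 (hb.cent ?_ (hZi x hx'))
      exact hb.toMd.mem_Z_iff.2 ⟨hx, fun b hbB => (h.fr.blk i).cZ b hbB x hx'⟩
    rw [h4, card_bot, mul_one, hb.card, hb.cardZ, h.fr.cardZ] at h3
    rw [h3, hcardY]
  have hTY : (S : Subgroup G) ⊓ centralizer (Z i : Set G) ≤ normalizer (Y : Set G) :=
    PG.ThmG.norm_sup (TU1 h p h2) (inf_le_right.trans (centralizer_le_normalizer _))
  have hLY : L' ≤ normalizer (Y : Set G) := by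
    rw [hYV']
    refine PG.ThmG.norm_sup (fun x hx => ?_) ((hLR.trans hRC).trans (centralizer_le_normalizer _))
    refine mem_normalizer_of_cj_le ?_
    rintro _ ⟨v, hv, rfl⟩
    exact hb.nV x hx v hv
  have hRY : R ≤ normalizer (Y : Set G) := hR.trans (sup_le hTY hLY)
  have hRW : R ≤ normalizer (W l : Set G) := by
    intro r hr
    refine mem_normalizer_iff_cj.2 (cjWj h p h2 ?_)
    refine (cj_mono r (le_sup_left : W l ≤ Y)).trans ?_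
    rw [cj_eq_of_mem_normalizer (hRY hr)]
  refine ⟨hRW, rfl, ?_⟩
  obtain ⟨k, hk, hs, -⟩ := hb.spl
  refine Subgroup.eq_of_le_of_card_ge ?_ (by rw [hb.card, hb.cardZ, card_W h])
  rw [hs]
  refine sup_le (h.fr.blk l).ZV ?_
  refine (cj_mono k (h.fr.blk l).ZV).trans ?_
  rw [cj_eq_of_mem_normalizer (hRW (hLR hk))]

/-- transitivity on the nonzero vectors of `W j` -/
theorem uni_c {R L' : Subgroup G} (hBR : B ≤ R) (hLR : L' ≤ R) (hb : NB B L' (W j) (Z j) q) {x y : G} (hx : x ∈ W j)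
    (hx1 : x ≠ 1) (hy : y ∈ W j) (hy1 : y ≠ 1) : ∃ r ∈ R, r * x * r⁻¹ = y := by
  obtain ⟨k, hk, hs, hbot⟩ := hb.spl
  -- every vector is conjugate into `Z j`
  have key : ∀ x ∈ W j, x ≠ 1 → ∃ r ∈ R, r * x * r⁻¹ ∈ Z j := by
    intro x hx hx1
    by_cases hxZ : x ∈ Z j
    · exact ⟨1, one_mem _, by simpa using hxZ⟩
    have hx' := hx
    rw [hs] at hx'
    obtain ⟨z, hz, c, hc, rfl⟩ := SQ1.Bau.mem_sup_comm
      (fun a ha b hb' => hb.comm (hb.ZV ha) (hb.cjV hk hb')) hx'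
    -- `b` maps `z c` to `c`
    obtain ⟨b, hbB, -, e⟩ := h.root j (z * c) hx hxZ z⁻¹ (inv_mem hz)
    have e1 : b * (z * c) * b⁻¹ = c := by
      calc b * (z * c) * b⁻¹ = (b * (z * c) * b⁻¹ * (z * c)⁻¹) * (z * c) := by group
        _ = z⁻¹ * (z * c) := by rw [e]
        _ = c := by group
    refine ⟨k⁻¹ * b, mul_mem (inv_mem (hLR hk)) (hBR hbB), ?_⟩
    have e2 : k⁻¹ * b * (z * c) * (k⁻¹ * b)⁻¹ = k⁻¹ * (b * (z * c) * b⁻¹) * k := by group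
    rw [e2, e1]
    exact mem_cj.1 hc
  obtain ⟨r, hr, h3⟩ := key x hx hx1
  obtain ⟨r', hr', h4⟩ := key y hy hy1
  obtain ⟨m, hm, -, e⟩ := hb.tor' h3 (fun e => hx1 (conj_eq_one_iff.1 e)) h4 (fun e => hy1 (conj_eq_one_iff.1 e))
  refine ⟨r'⁻¹ * m * r, mul_mem (mul_mem (inv_mem hr') (hLR hm)) hr, ?_⟩
  calc r'⁻¹ * m * r * x * (r'⁻¹ * m * r)⁻¹ = r'⁻¹ * (m * (r * x * r⁻¹) * m⁻¹) * r' := by group
    _ = r'⁻¹ * (r' * y * r'⁻¹) * r' := by rw [e]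
    _ = y := by group

include p h2 hTI in
/-- the last part of UNI -/
theorem uni_d {R : Subgroup G} (hBR : B ≤ R) (hRW : R ≤ normalizer (W j : Set G))
    (hne : ¬ R ≤ normalizer (Z j : Set G)) :
    ∃ r ∈ R, r ∉ normalizer (Z j : Set G) ∧ ∃ l, l ∈ centralizer (W i : Set G) ∧
      ∀ x ∈ W j, l * x * l⁻¹ = r * x * r⁻¹ := by
  obtain ⟨r₀, hr₀, hr₀n⟩ := SetLike.not_le_iff_exists.1 hne
  have hfb := h.fr.blk j
  obtain ⟨x₀, hx₀, v₀, hv₀, hne₀⟩ := hfb.ne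
  set a : Subgroup G := cj r₀ (Z j) with ha
  have haW : a ≤ W j := by
    refine (cj_mono r₀ hfb.ZV).trans ?_
    rw [cj_eq_of_mem_normalizer (hRW hr₀)]
  have hpa : PG.IsPt ![Z i, Z j] a := ⟨r₀ * s, by
    have h3 := h.cj_s_Z p
    change a = cj (r₀ * s) (Z i)
    rw [← cj_cj, h3]⟩
  have hpj : PG.IsPt ![Z i, Z j] (Z j) := ptj h p
  have haZ : a ≠ Z j := fun e => hr₀n (mem_normalizer_iff_cj.2 e)
  have hbot : ∀ x, x ∈ a → x ∈ Z j → x = 1 := by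
    intro x hx hx'
    by_contra hx1
    exact haZ (ti h hTI hpa hpj hx hx' hx1)
  set r : G := r₀ * x₀ * r₀⁻¹ with hr
  have hrR : r ∈ R := mul_mem (mul_mem hr₀ (hBR hx₀)) (inv_mem hr₀)
  have hr₀i : ∀ x ∈ W j, r₀⁻¹ * x * r₀ ∈ W j := by
    intro x hx
    have := (mem_normalizer_iff.1 (inv_mem (hRW hr₀)) x).1 hx
    rwa [inv_inv] at this
  -- `[W j, r] ≤ a`, `r` centralises `a`
  have hra : ∀ x ∈ W j, r * x * r⁻¹ * x⁻¹ ∈ a := by
    intro x hx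
    rw [ha, mem_cj]
    have e : r₀⁻¹ * (r * x * r⁻¹ * x⁻¹) * r₀ = x₀ * (r₀⁻¹ * x * r₀) * x₀⁻¹ * (r₀⁻¹ * x * r₀)⁻¹ := by rw [hr]; group
    rw [e]
    exact hfb.com x₀ hx₀ _ (hr₀i x hx)
  have hrc : ∀ x ∈ a, r * x * r⁻¹ = x := by
    intro x hx
    have h3 := hfb.cZ x₀ hx₀ _ (mem_cj.1 hx)
    have e : r * x * r⁻¹ = r₀ * (x₀ * (r₀⁻¹ * x * r₀) * x₀⁻¹) * r₀⁻¹ := by rw [hr]; group
    rw [e, h3]; group
  -- `W j = Z j a`
  have hWa : W j = Z j ⊔ a := by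
    symm
    have h3 : Z j ⊓ a = ⊥ := by
      rw [eq_bot_iff]
      rintro x ⟨hx, hx'⟩
      exact mem_bot.2 (hbot x hx' hx)
    have h5 := SQ1.Bau.card_sup_comm (A := Z j) (B := a) fun x hx y hy => hfb.comm (hfb.ZV hx) (haW hy)
    rw [h3, card_bot, mul_one, ha, card_cj, h.fr.cardZ, ← ha] at h5
    exact Subgroup.eq_of_le_of_card_ge (sup_le hfb.ZV haW) (by rw [h5, card_W h])
  -- `r ∉ N(Z j)`
  have hrn : r ∉ normalizer (Z j : Set G) := by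
    intro hrn
    apply hne₀
    have h3 : ∀ x ∈ W j, r * x * r⁻¹ = x := by
      intro x hx
      rw [hWa] at hx
      obtain ⟨z, hz, c, hc, rfl⟩ := SQ1.Bau.mem_sup_comm (fun x hx y hy => hfb.comm (hfb.ZV hx) (haW hy)) hx
      have h4 : r * z * r⁻¹ * z⁻¹ = 1 := by
        refine hbot _ (hra z (hfb.ZV hz)) (mul_mem ((mem_normalizer_iff.1 hrn z).1 hz) (inv_mem hz))
      have h5 : r * z * r⁻¹ = z := mul_inv_eq_one.1 h4
      calc r * (z * c) * r⁻¹ = (r * z * r⁻¹) * (r * c * r⁻¹) := by group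
        _ = z * c := by rw [h5, hrc c hc]
    have hv' : r₀ * v₀ * r₀⁻¹ ∈ W j := (mem_normalizer_iff.1 (hRW hr₀) v₀).1 hv₀
    have h4 := h3 _ hv'
    have h5 : x₀ * v₀ * x₀⁻¹ = v₀ := by
      have e : r * (r₀ * v₀ * r₀⁻¹) * r⁻¹ = r₀ * (x₀ * v₀ * x₀⁻¹) * r₀⁻¹ := by rw [hr]; group
      rw [e] at h4
      exact mul_left_cancel (mul_right_cancel h4)
    exact mul_inv_eq_iff_eq_mul.1 h5
  -- the element `l`
  obtain ⟨z, hz, hz1⟩ : ∃ z ∈ Z j, z ≠ 1 := by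
    by_contra hcon
    push Not at hcon
    exact h.Z_ne j ((eq_bot_iff_forall _).2 hcon)
  have hy : r₀ * z * r₀⁻¹ ∈ a := ⟨z, hz, rfl⟩
  have hy1 : r₀ * z * r₀⁻¹ ≠ 1 := fun e => hz1 (conj_eq_one_iff.1 e)
  obtain ⟨l₀, hl₀P, hl₀, z₁, hz₁, e₁⟩ := h.tr j _ (haW hy) hy1
  have hl₀a : cj l₀ (Z j) = a := by
    refine ti h hTI (i := i) (j := j) (x := r₀ * z * r₀⁻¹) ?_ hpa ?_ hy hy1
    · have h3 := hpj.conj l₀
      exact h3
    · rw [← e₁]; exact ⟨z₁, hz₁, rfl⟩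
  have hl₀W : cj l₀ (W j) = W j := h.fix hl₀P hl₀ j
  have hl₀i : ∀ x ∈ W j, l₀⁻¹ * x * l₀ ∈ W j := by
    intro x hx
    rw [← mem_cj, hl₀W]
    exact hx
  have hz' : l₀⁻¹ * z * l₀ ∉ Z j := by
    intro h3
    rw [← mem_cj, hl₀a] at h3
    exact hz1 (hbot z h3 hz)
  have hδ : l₀⁻¹ * (r * z * r⁻¹ * z⁻¹) * l₀ ∈ Z j := by
    rw [← mem_cj, hl₀a]
    exact hra z (hfb.ZV hz)
  obtain ⟨b', hb', hb'c, e₂⟩ := h.root j _ (hl₀i z (hfb.ZV hz)) hz' _ hδ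
  set l : G := l₀ * b' * l₀⁻¹ with hl
  have hlC : l ∈ centralizer (C j : Set G) := mul_mem (mul_mem hl₀ hb'c) (inv_mem hl₀)
  have hlz : l * z * l⁻¹ = r * z * r⁻¹ := by
    have e3 : l * z * l⁻¹ * z⁻¹ = l₀ * (b' * (l₀⁻¹ * z * l₀) * b'⁻¹ * (l₀⁻¹ * z * l₀)⁻¹) * l₀⁻¹ := by rw [hl]; group
    rw [e₂] at e3
    have e4 : l * z * l⁻¹ * z⁻¹ = r * z * r⁻¹ * z⁻¹ := by rw [e3]; group
    exact mul_right_cancel e4
  have hla : ∀ x ∈ W j, l * x * l⁻¹ * x⁻¹ ∈ a := by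
    intro x hx
    rw [← hl₀a, mem_cj]
    have e : l₀⁻¹ * (l * x * l⁻¹ * x⁻¹) * l₀ = b' * (l₀⁻¹ * x * l₀) * b'⁻¹ * (l₀⁻¹ * x * l₀)⁻¹ := by rw [hl]; group
    rw [e]
    exact hfb.com b' hb' _ (hl₀i x hx)
  have hlc : ∀ x ∈ a, l * x * l⁻¹ = x := by
    intro x hx
    rw [← hl₀a, mem_cj] at hx
    have h3 := hfb.cZ b' hb' _ hx
    have e : l * x * l⁻¹ = l₀ * (b' * (l₀⁻¹ * x * l₀) * b'⁻¹) * l₀⁻¹ := by rw [hl]; group
    rw [e, h3]; group
  refine ⟨r, hrR, hrn, l, centralizer_le (h.fr.WjC j i p.ne.symm) hlC, ?_⟩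
  -- `g = l⁻¹ r` centralises `W j`
  set g : G := l⁻¹ * r with hg
  have hgz : g * z * g⁻¹ = z := by
    calc g * z * g⁻¹ = l⁻¹ * (r * z * r⁻¹) * l := by rw [hg]; group
      _ = l⁻¹ * (l * z * l⁻¹) * l := by rw [hlz]
      _ = z := by group
  have hgn : cj g (Z j) = Z j := by
    refine ti h hTI (i := i) (j := j) (x := z) ?_ hpj ?_ hz hz1
    · exact hpj.conj g
    · rw [mem_cj]
      have e : g⁻¹ * z * g = z := by
        calc g⁻¹ * z * g = g⁻¹ * (g * z * g⁻¹) * g := by rw [hgz]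
          _ = z := by group
      rwa [e]
  have hgZ : ∀ x ∈ Z j, g * x * g⁻¹ = x := by
    intro x hx
    have h3 : g * x * g⁻¹ * x⁻¹ ∈ Z j := by
      refine mul_mem ?_ (inv_mem hx)
      rw [← hgn]
      exact ⟨x, hx, rfl⟩
    have h4 : g * x * g⁻¹ * x⁻¹ ∈ a := by
      -- `l⁻¹ (r x r⁻¹) l = l⁻¹ (r x r⁻¹ x⁻¹) l * (l⁻¹ x l)`
      have hri := hra x (hfb.ZV hx)
      have e1 : l⁻¹ * (r * x * r⁻¹ * x⁻¹) * l = r * x * r⁻¹ * x⁻¹ := by
        calc l⁻¹ * (r * x * r⁻¹ * x⁻¹) * l = l⁻¹ * (l * (r * x * r⁻¹ * x⁻¹) * l⁻¹) * l := by rw [hlc _ hri]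
          _ = r * x * r⁻¹ * x⁻¹ := by group
      have e2 : l⁻¹ * (l * x * l⁻¹ * x⁻¹) * l = l * x * l⁻¹ * x⁻¹ := by
        calc l⁻¹ * (l * x * l⁻¹ * x⁻¹) * l = l⁻¹ * (l * (l * x * l⁻¹ * x⁻¹) * l⁻¹) * l := by rw [hlc _ (hla x (hfb.ZV hx))]
          _ = l * x * l⁻¹ * x⁻¹ := by group
      have e3 : g * x * g⁻¹ * x⁻¹ = (l⁻¹ * (r * x * r⁻¹ * x⁻¹) * l) * (l⁻¹ * (l * x * l⁻¹ * x⁻¹) * l)⁻¹ := by
        rw [hg]; group
      rw [e3, e1, e2]
      exact mul_mem hri (inv_mem (hla x (hfb.ZV hx)))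
    exact mul_inv_eq_one.1 (hbot _ h4 h3)
  have hga : ∀ x ∈ a, g * x * g⁻¹ = x := by
    intro x hx
    have e1 : g * x * g⁻¹ = l⁻¹ * (r * x * r⁻¹) * l := by rw [hg]; group
    rw [e1, hrc x hx]
    calc l⁻¹ * x * l = l⁻¹ * (l * x * l⁻¹) * l := by rw [hlc x hx]
      _ = x := by group
  intro x hx
  have hgx : g * x * g⁻¹ = x := by
    rw [hWa] at hx
    obtain ⟨z, hz, c, hc, rfl⟩ := SQ1.Bau.mem_sup_comm (fun x hx y hy => hfb.comm (hfb.ZV hx) (haW hy)) hx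
    calc g * (z * c) * g⁻¹ = (g * z * g⁻¹) * (g * c * g⁻¹) := by group
      _ = z * c := by rw [hgZ z hz, hga c hc]
  calc l * x * l⁻¹ = l * (g * x * g⁻¹) * l⁻¹ := by rw [hgx]
    _ = r * x * r⁻¹ := by rw [hg]; group

include p h2 hTI hnl in
/-- `R ≤ N(V_P)` -/
theorem uni_b (self : W i ≤ PG.NN ![Z i, Z j] (Z i)) (hfix : FixU (S : Subgroup G) P W Z i j) {R L' : Subgroup G}
    (hmp : IsMinPar ((S : Subgroup G) ⊓ centralizer (Z i : Set G)) R)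
    (hRC : R ≤ centralizer (Z i : Set G)) (hne : ¬ R ≤ normalizer (Z j : Set G))
    (hLR : L' ≤ R) (hR : R ≤ ((S : Subgroup G) ⊓ centralizer (Z i : Set G)) ⊔ L') (hb : NB B L' (W j) (Z j) q)
    (hRW : R ≤ normalizer (W j : Set G)) : R ≤ normalizer ((W i ⊔ W j : Subgroup G) : Set G) := by
  have PP' := h.toPP p hTI hnl
  have hV := V_eq h h2 p.ne
  have hNc : PG.NN ![Z i, Z j] (Z i) ≤ centralizer (PG.NN ![Z i, Z j] (Z i) : Set G) := PP'.NN_comm pti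
  have hNB : PG.NN ![Z i, Z j] (Z i) ≤ B := PP'.N_le_Q.trans (h.o2_le i)
  have hNQ : PG.NN ![Z i, Z j] (Z i) ≤ o2 P := by
    intro n hn
    refine (h.fr.mem_Q n (hNB hn)).2 fun v hv => ?_
    rw [hV] at hv
    have h3 : W i ⊔ W j ≤ PG.NN ![Z i, Z j] (Z i) := sup_le self (U1N h h2 p.ne)
    exact (mem_centralizer_iff.1 (hNc hn) v (h3 hv)).symm
  have hCN : centralizer (Z i : Set G) ≤ normalizer (PG.NN ![Z i, Z j] (Z i) : Set G) :=
    (centralizer_le_normalizer _).trans (PG.PP.HH_le_NN _)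
  refine hR.trans (sup_le (PG.ThmG.norm_sup (TU0 h p h2) (TU1 h p h2)) fun r hr => ?_)
  have hrR := hLR hr
  have hrc : ∀ z ∈ Z i, r * z * r⁻¹ = z := fun z hz => by
    rw [← mem_centralizer_iff.1 (hRC hrR) z hz, mul_inv_cancel_right]
  refine mem_normalizer_of_cj_le ?_
  rintro _ ⟨v, hv, rfl⟩
  change r * v * r⁻¹ ∈ W i ⊔ W j
  obtain ⟨w, hw, c, hc, rfl⟩ := SQ1.Bau.mem_sup_comm
    (fun a ha b hb => h.fr.Vc (h.fr.WV i ha) (h.fr.WV j hb)) hv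
  have e1 : r * (w * c) * r⁻¹ = (r * w * r⁻¹) * (r * c * r⁻¹) := by group
  rw [e1]
  refine mul_mem ?_ (mem_sup_right ((mem_normalizer_iff.1 (hRW hrR) c).1 hc))
  rw [← hV]
  have hn : r * w * r⁻¹ ∈ PG.NN ![Z i, Z j] (Z i) := (mem_normalizer_iff.1 (hCN (hRC hrR)) w).1 (self hw)
  refine hfix R hmp hRC hne r hrR w hw (hNQ hn) fun b hbQ => ?_
  have hbB := h.fr.QB hbQ
  have h3 : r⁻¹ * b * r ∈ B := by
    have := hb.cor r⁻¹ (inv_mem hr) b hbB fun v hv => h.fr.cQ hbQ (h.fr.WV j hv)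
    rwa [inv_inv] at this
  have h4 := (h.fr.blk i).com _ h3 w hw
  have e2 : r * w * r⁻¹ * b * (r * w * r⁻¹)⁻¹ * b⁻¹ =
      r * ((r⁻¹ * b * r) * w * (r⁻¹ * b * r)⁻¹ * w⁻¹)⁻¹ * r⁻¹ := by group
  rw [e2, hrc _ (inv_mem h4)]
  exact inv_mem h4

include p h2 hTI hnl in
/-- **`QFr` from the frame `Bg`, `k = 2`.** -/
theorem qfr_of (self : W i ≤ PG.NN ![Z i, Z j] (Z i)) (huni : GenU (S : Subgroup G) B ZJ W Z q i j)
    (hfix : FixU (S : Subgroup G) P W Z i j) :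
    QFr ![Z i, Z j] ![W i, W j] B ((S : Subgroup G) ⊓ centralizer (Z i : Set G)) := by
  have PP' := h.toPP p hTI hnl
  refine
    { toPP := PP'
      ti := fun a b ha hb x hx hx' hx1 => ti h hTI ha hb hx hx' hx1
      fus := ?_
      inf := h.W_disj p.ne
      ZU1 := (h.fr.blk j).ZV
      U0N := self
      U1N := U1N h h2 p.ne
      pts := fun x hx hx1 => pts h hx hx1
      prod := fun a ha haU hne => prod h hTI ha haU hne
      syl := syl_T h i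
      TB := TB h p h2
      T1 := T1 h p h2
      TU0 := TU0 h p h2
      TU1 := TU1 h p h2
      com := fun t ht x hx => com h p h2 ht hx
      fixU := ?_
      fixU1 := ?_
      nT := ?_
      nB := ?_
      uni := ?_ }
  · rintro a ⟨g, rfl⟩ x hx hx' hx1
    change x ∈ Z i ⊔ Z j at hx'
    obtain ⟨l, hl⟩ := h.fus (sup_le (h.fr.Z_le i) (h.fr.Z_le j) hx') (mem_cj.1 hx)
    rcases h2 l with rfl | rfl
    · left
      exact ti h hTI ⟨g, rfl⟩ pti hx hl hx1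
    · right
      exact ti h hTI ⟨g, rfl⟩ (ptj h p) hx hl hx1
  · intro x hx hfx
    exact (h.fr.blk i).toMd.mem_Z_iff.2 ⟨hx, fun b hb => mul_inv_eq_iff_eq_mul.1 (hfx b (B_le_T h i hb))⟩
  · intro x hx hfx
    exact (h.fr.blk j).toMd.mem_Z_iff.2 ⟨hx, fun b hb => mul_inv_eq_iff_eq_mul.1 (hfx b (B_le_T h i hb))⟩
  · rintro g ⟨hg, hgT⟩
    obtain ⟨h3, h4⟩ := nB' h p h2 hg (nT' h p h2 hgT)
    exact ⟨mem_normalizer_iff_cj.2 h3, mem_normalizer_iff_cj.2 h4⟩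
  · rintro g ⟨hg, hgB⟩
    exact mem_normalizer_iff_cj.2 (nB' h p h2 hg hgB).2
  · intro R hmp hRC hne
    obtain ⟨L', V', l, hLR, hR, hb, hV⟩ := huni R hmp hRC hne
    obtain ⟨hRW, rfl, rfl⟩ := uni_a h p h2 hRC hLR hR hb hV
    have hBR : B ≤ R := (B_le_T h i).trans hmp.le
    refine ⟨hRW, uni_b h p h2 hTI hnl self hfix hmp hRC hne hLR hR hb hRW,
      fun x hx hx1 y hy hy1 => uni_c h hBR hLR hb hx hx1 hy hy1, ?_⟩
    obtain ⟨r, hr, hrn, m, hm, hmr⟩ := uni_d h p h2 hTI hBR hRW hne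
    exact ⟨r, hr, hrn, m, centralizer_le (h.fr.blk i).ZV hm, hm, hmr⟩

end

end Cfsg.Agent.Omega.KL.QF.OfBg

end
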