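import Cfsg.Agent.Mrg.Omega.KL.QF.OfLev
import Cfsg.Agent.Mrg.Omega.KL.QF.KIn


/-!
# `QIn K` (the frame `QFr` at every stage): `QLev K`, and row (7) branch (B)

* `qLev : OfNeg.QLev K`; `qIn` : `FFThm.Stmt → KIn.QIn K`;
* `kIn` : **`FFThm.Stmt → MLK → Ext → Row7.KIn K`.**
-/

set_option autoImplicit false

namespace Cfsg.Agent.Omega.KL.QF.QIn

open Cfsg Cfsg.Agent.ZN
open Cfsg.Agent.Omega.NO3S.Level (lev lev_mono)
open Cfsg.Agent.Omega.NO3S.EThree.Row7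
open Cfsg.Agent.Omega.Frame (Cls)

universe u

/-- **The level half.** -/
theorem qLev {K : Cls.{u}} : OfNeg.QLev K := by
  intro G _ _ _ S P n L W Z C q _ hn _ h hW
  exact ⟨_, OfMul.qfr_mq h (hW 0) fun hj => absurd ((lev_mono (S : Subgroup G) (Nat.zero_le n)).trans hn) hj⟩

/-- **`QIn`.** -/
theorem qIn {K : Cls.{u}} (hFF : FFThm.Stmt.{u}) : KIn.QIn K := OfNeg.qIn_of hFF qLev

/-- **Row (7), `W i ≤ N_i`.** -/
theorem kIn {K : Cls.{u}} (hFF : FFThm.Stmt.{u}) (hML : ML.Final.MLK.{u, u}) (hE : ML.Ex.Two.Ext.{u, u}) : KIn K :=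
  KIn.kIn_of hML hE (qIn hFF)

end Cfsg.Agent.Omega.KL.QF.QIn
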