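import Cfsg.Agent.Mrg.Omega.KL.QF.PlugS
import Cfsg.Agent.Mrg.Omega.KL.QF.NotFail
import Cfsg.Agent.Mrg.Omega.KL.QF.Fin
import Cfsg.Agent.Mrg.Omega.KL.QF.PtV
import Cfsg.Agent.Mrg.Omega.NO3S.EThree.Row7B
import Cfsg.Agent.Mrg.Omega.NO3S.EThree.Row7X

section


/-!
# `J(O)` moves `W i` (`k = 2`, `q ≥ 4`, every level), Row (7) from generation and FIX (helper651; helper475 #24418, helper33 #24623)

* `qfb_of` : the frame `QFb Z W B (C_S(Z 0))` from `Bg`, `GenU`, `FixU` (no `W 0 ≤ N_0`);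
* `hJ_zero`, **`hJ_of`** : `W 0 ≰ N_0` : some `A ∈ AA (OO Z)` moves `W i`;
* **`false_of_gen (h : Bg ..) (4 ≤ q) (TI) (NonLoc) (GenU) (FixU) (MLK) (Ext) : False`** (`Row7B.MB.false` without (V!)).
-/

set_option autoImplicit false
set_option linter.unusedSectionVars false

namespace Cfsg.Agent.Omega.KL.QF.HJ

open Subgroup Cfsg Cfsg.Agent.ZN.ChoiceBase
open Cfsg.Agent.ZN (jj zj bau zc zl o2)
open Cfsg.Agent.ZN.ChoiceSit (Syl)
open Cfsg.Agent.Omega.OM Cfsg.Agent.Omega.OM.Uni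
open Cfsg.Agent.Omega.OM.UniPlus (NB)
open Cfsg.Agent.Omega.OM.PG.Peel (XW ln_le_XW)
open Cfsg.Agent.Omega.OM.PG.TwoI (TA')
open Cfsg.Agent.Omega.NO3S.EThree
open Cfsg.Agent.Omega.NO3S.EThree.Frame
open Cfsg.Agent.Omega.NO3S.EThree.Row7 (Nn vec2 vec2' fin2)
open Cfsg.Agent.Omega.NO3S.EThree.Row7B
open Cfsg.Agent.Omega.MinPar (NonLoc)
open Cfsg.Agent.Omega.TCQ.R
open Cfsg.Agent.Omega.KL.QF Cfsg.Agent.Omega.KL.QF.OfBg Cfsg.Agent.Omega.KL.QF.PtV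
open Cfsg.Agent.Omega.KL.Q (ExG.In)
open Cfsg.Agent.MinSimple.MinParabolic (IsMinPar)
open scoped Pointwise

universe u

variable {G : Type u} [Group G] [Finite G] {S : Sylow 2 G} {P B ZJ : Subgroup G} {L W Z C : Fin 2 → Subgroup G} {q : ℕ}

section

variable (h : Bg S P B ZJ L W Z C q)
include h

theorem exists_pa : ∃ s, Pa (S : Subgroup G) W 0 1 s := by
  obtain ⟨j, s, p⟩ := h.exists_partner 0
  rcases fin2 j with rfl | rfl
  · exact absurd rfl p.ne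
  · exact ⟨s, p⟩

variable {s : G} (p : Pa (S : Subgroup G) W 0 1 s) (hTI : TI (Z 0))
  (hnl : NonLoc (normalizer (Z 0 : Set G)) (normalizer (Z 1 : Set G)))
include p hTI hnl

/-- `R ≤ N(V_P)`, without `W 0 ≤ N_0` -/
theorem uni_b' (hfix : FixU (S : Subgroup G) P W Z 0 1) {R L' : Subgroup G}
    (hmp : IsMinPar ((S : Subgroup G) ⊓ centralizer (Z 0 : Set G)) R)
    (hRC : R ≤ centralizer (Z 0 : Set G)) (hne : ¬ R ≤ normalizer (Z 1 : Set G))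
    (hLR : L' ≤ R) (hR : R ≤ ((S : Subgroup G) ⊓ centralizer (Z 0 : Set G)) ⊔ L') (hb : NB B L' (W 1) (Z 1) q)
    (hRW : R ≤ normalizer (W 1 : Set G)) : R ≤ normalizer ((W 0 ⊔ W 1 : Subgroup G) : Set G) := by
  have D : FQ Z W B q := FQ.of_bg h hTI hnl
  have h2 : ∀ l : Fin 2, l = 0 ∨ l = 1 := fun l => fin2 l
  have hV := V_eq h h2 p.ne
  have hXc : XW Z W (Z 0) ≤ centralizer (XW Z W (Z 0) : Set G) := D.XW_comm 0
  have hXB : XW Z W (Z 0) ≤ B := (D.XW_le_Q 0).trans (h.o2_le 0)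
  have h0 : W 0 ≤ XW Z W (Z 0) := ln_le_XW (D.ln 0)
  have h1 : W 1 ≤ XW Z W (Z 0) := (D.U_le_N (by decide : (0 : Fin 2) ≠ 1)).trans le_sup_left
  have hXQ : XW Z W (Z 0) ≤ o2 P := by
    intro n hn
    refine (h.fr.mem_Q n (hXB hn)).2 fun v hv => ?_
    rw [hV] at hv
    exact (mem_centralizer_iff.1 (hXc hn) v ((sup_le h0 h1) hv)).symm
  have hCX : centralizer (Z 0 : Set G) ≤ normalizer (XW Z W (Z 0) : Set G) :=
    (centralizer_le_normalizer _).trans (OM.PG.CX.nor_X D.xf (D.pt 0))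
  refine hR.trans (sup_le (PG.ThmG.norm_sup (TU0 h p h2) (TU1 h p h2)) fun r hr => ?_)
  have hrR := hLR hr
  have hrc : ∀ z ∈ Z 0, r * z * r⁻¹ = z := fun z hz => by
    rw [← mem_centralizer_iff.1 (hRC hrR) z hz, mul_inv_cancel_right]
  refine mem_normalizer_of_cj_le ?_
  rintro _ ⟨v, hv, rfl⟩
  change r * v * r⁻¹ ∈ W 0 ⊔ W 1
  obtain ⟨w, hw, c, hc, rfl⟩ := SQ1.Bau.mem_sup_comm
    (fun a ha b hb => h.fr.Vc (h.fr.WV 0 ha) (h.fr.WV 1 hb)) hv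
  have e1 : r * (w * c) * r⁻¹ = (r * w * r⁻¹) * (r * c * r⁻¹) := by group
  rw [e1]
  refine mul_mem ?_ (mem_sup_right ((mem_normalizer_iff.1 (hRW hrR) c).1 hc))
  rw [← hV]
  have hn : r * w * r⁻¹ ∈ XW Z W (Z 0) := (mem_normalizer_iff.1 (hCX (hRC hrR)) w).1 (h0 hw)
  refine hfix R hmp hRC hne r hrR w hw (hXQ hn) fun b hbQ => ?_
  have hbB := h.fr.QB hbQ
  have h3 : r⁻¹ * b * r ∈ B := by
    have := hb.cor r⁻¹ (inv_mem hr) b hbB fun v hv => h.fr.cQ hbQ (h.fr.WV 1 hv)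
    rwa [inv_inv] at this
  have h4 := (h.fr.blk 0).com _ h3 w hw
  have e2 : r * w * r⁻¹ * b * (r * w * r⁻¹)⁻¹ * b⁻¹ =
      r * ((r⁻¹ * b * r) * w * (r⁻¹ * b * r)⁻¹ * w⁻¹)⁻¹ * r⁻¹ := by group
  rw [e2, hrc _ (inv_mem h4)]
  exact inv_mem h4

/-- **The frame `QFb`.** -/
theorem qfb_of (huni : GenU (S : Subgroup G) B ZJ W Z q 0 1) (hfix : FixU (S : Subgroup G) P W Z 0 1) :
    QFb Z W B ((S : Subgroup G) ⊓ centralizer (Z 0 : Set G)) := by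
  have D : FQ Z W B q := FQ.of_bg h hTI hnl
  have h2 : ∀ l : Fin 2, l = 0 ∨ l = 1 := fun l => fin2 l
  have ev : (![Z 0, Z 1] : Fin 2 → Subgroup G) = Z := vec2 Z
  refine
    { toPP := D.toPP
      ti := D.ti
      fus := D.fus
      inf := D.inf
      ZU1 := (h.fr.blk 1).ZV
      U1N := D.U_le_N (by decide : (0 : Fin 2) ≠ 1)
      pts := fun x hx hx1 => by
        have := pts h (i := 0) (j := 1) hx hx1
        rwa [ev] at this
      prod := fun a ha haU hne => prod h hTI (j := 1) (by rw [ev]; exact ha) haU hne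
      syl := syl_T h 0
      TB := TB h p h2
      T1 := T1 h p h2
      TU0 := TU0 h p h2
      TU1 := TU1 h p h2
      com := fun t ht x hx => com h p h2 ht hx
      fixU := ?_
      fixU1 := ?_
      nT := ?_
      nB := ?_
      uni := ?_ }
  · intro x hx hfx
    exact (h.fr.blk 0).toMd.mem_Z_iff.2 ⟨hx, fun b hb => mul_inv_eq_iff_eq_mul.1 (hfx b (B_le_T h 0 hb))⟩
  · intro x hx hfx
    exact (h.fr.blk 1).toMd.mem_Z_iff.2 ⟨hx, fun b hb => mul_inv_eq_iff_eq_mul.1 (hfx b (B_le_T h 0 hb))⟩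
  · rintro g ⟨hg, hgT⟩
    obtain ⟨h3, h4⟩ := nB' h p h2 hg (nT' h p h2 hgT)
    exact ⟨mem_normalizer_iff_cj.2 h3, mem_normalizer_iff_cj.2 h4⟩
  · rintro g ⟨hg, hgB⟩
    exact mem_normalizer_iff_cj.2 (nB' h p h2 hg hgB).2
  · intro R hmp hRC hne
    obtain ⟨L', V', l, hLR, hR, hb, hV⟩ := huni R hmp hRC hne
    obtain ⟨hRW, rfl, rfl⟩ := uni_a h p h2 hRC hLR hR hb hV
    have hBR : B ≤ R := (B_le_T h 0).trans hmp.le
    refine ⟨hRW, uni_b' h p hTI hnl hfix hmp hRC hne hLR hR hb hRW,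
      fun x hx hx1 y hy hy1 => uni_c h hBR hLR hb hx hx1 hy hy1, ?_⟩
    obtain ⟨r, hr, hrn, m, hm, hmr⟩ := uni_d h p h2 hTI hBR hRW hne
    exact ⟨r, hr, hrn, m, centralizer_le (h.fr.blk 0).ZV hm, hm, hmr⟩

/-- the module frame `QFt` with `X = XW Z W (Z 0)` -/
theorem qft_of (hq : 4 ≤ q) {T : Subgroup G} (hBT : B ≤ T) (E : QFb Z W B T) (hW : ¬ W 0 ≤ Nn Z 0) :
    QFt Z W B T (XW Z W (Z 0)) := by
  have D : FQ Z W B q := FQ.of_bg h hTI hnl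
  have h2 : ∀ l : Fin 2, l = 0 ∨ l = 1 := fun l => fin2 l
  have ev : (![Z 0, Z 1] : Fin 2 → Subgroup G) = Z := vec2 Z
  have hCX : centralizer (Z 0 : Set G) ≤ normalizer (XW Z W (Z 0) : Set G) :=
    (centralizer_le_normalizer _).trans (OM.PG.CX.nor_X D.xf (D.pt 0))
  refine
    { toQFs :=
        { toQFb := E
          NX := le_sup_left
          U0N := ln_le_XW (D.ln 0)
          Ncomm := D.XW_comm 0
          Xsq := (ExactA.eab_iff.1 (D.XW_eab 0)).2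
          CN := hCX }
      four := ?_
      adjC := fun u hu => Fin.adjC h p.ne h2 hBT E.syl (by rw [ev]; exact hu)
      core0 := fun J hJ hn hsq => ?_
      gX := ?_
      out := ?_ }
  · have h1 : Nat.card (Z 0) * (Z 0).relIndex (W 0) = Nat.card (W 0) :=
      Cfsg.Agent.Omega.NO3S.ML.card_mul_relIndex (h.fr.blk 0).ZV
    rw [(h.fr.blk 0).card] at h1
    have h3 : (Z 0).relIndex (W 0) = q := Nat.eq_of_mul_eq_mul_left Nat.card_pos h1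
    rw [h3]
    exact hq
  · exact CoreP.of_bg h J hJ hn fun y hy => by
      rw [← pow_two]
      exact hsq y hy
  · intro W' hN hW0 hinv
    refine sup_le hN (iSup_le fun l => ?_)
    obtain ⟨c, hc, e⟩ := D.ln_conj l.2
    obtain ⟨x, hx, hn⟩ := Fin.frattini E.syl hc
    have hxc : x⁻¹ * c ∈ normalizer (Z 0 : Set G) := mul_mem (inv_mem (centralizer_le_normalizer _ hx)) hc
    have h1 : x⁻¹ * c ∈ normalizer (W 0 : Set G) := by
      have h3 : cj (x⁻¹ * c) B = B := h.wc T E.syl.2.1 hBT _ (by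
        have := cj_mono (x⁻¹ * c) hBT
        rwa [cj_eq_of_mem_normalizer hn] at this)
      exact mem_normalizer_iff_cj.2 (h.cj_W (mem_normalizer_iff_cj.2 h3) (cj_eq_of_mem_normalizer hxc))
    have e1 : MulAut.conj c • W 0 = MulAut.conj x • W 0 := by
      have e2 : c = x * (x⁻¹ * c) := by group
      rw [e2, ← NoFF.Basic.conj_conj, NOThreeL.Pair.conj_eq_of_mem h1]
    rw [e, e1]
    rintro _ ⟨w, hw, rfl⟩
    exact hinv x hx w (hW0 hw) (ln_le_XW (D.ln 0) hw)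
  · intro hle
    obtain ⟨x, hx, hxZ⟩ := D.exists_ne_Z 0
    obtain ⟨z, hz, n, hn, hzn⟩ := OM.KTwo.exists_mul_of_mem_sup
      (((D.NQ 0).trans (D.cen 0)).trans (centralizer_le_normalizer _)) (hle hx)
    have h3 : n ∈ W 0 := by
      have e : n = z⁻¹ * x := by rw [hzn]; group
      rw [e]
      exact mul_mem (inv_mem (D.ZU' 0 hz)) hx
    have h4 := D.inf_U hW h3 hn
    apply hxZ
    rw [hzn]
    exact mul_mem hz h4

/-- **`J(O)` moves `W 0`** if `W 0 ≰ N_0`. -/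
theorem hJ_zero (hML : ML.Final.MLK.{u, u}) (hN : KL.Q.DefG.NoPreG.{u, u}) (hq : 4 ≤ q) {T : Subgroup G} (hBT : B ≤ T)
    (E : QFb Z W B T) (hu : ∀ R : Subgroup G, IsMinPar T R → R ≤ centralizer (Z 0 : Set G) →
      ¬ R ≤ normalizer (Z 1 : Set G) → R ≤ normalizer (W 1 : Set G)) (hW : ¬ W 0 ≤ Nn Z 0) :
    ∃ A ∈ AA (OO Z), ¬ A ≤ centralizer (W 0 : Set G) := by
  by_contra hcon
  push Not at hcon
  have D : FQ Z W B q := FQ.of_bg h hTI hnl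
  have hNO := NoDQ.of_bg h hML hTI hnl
  have h2 : ∀ l : Fin 2, l = 0 ∨ l = 1 := fun l => fin2 l
  have I : ExG.In Z W := by
    have h1 := KL.Q.ExQF.in_of_uni h p h2 hTI hnl hML hBT E.syl hu
    rwa [vec2, vec2] at h1
  obtain ⟨A, hA, hAO, hAU, hEx, hAn⟩ := NotFail.exists_exX D I hNO hcon
  have hK : IsKGroup (centralizer (Z 0 : Set G)) := by
    refine h.hyp.ctx.kproper _ fun e => ?_
    exact KL.Q.ExBg.ne_top' h hnl (top_le_iff.1 (e ▸ centralizer_le_normalizer _))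
  obtain ⟨M, _, _, _, X, Y, hP⟩ := (qft_of h p hTI hnl hq hBT E hW).preG hK
    (fun a ha => by rw [← pow_two]; exact (ExactA.eab_iff.1 hA).2 a ha) hAO hAU hEx hAn
  exact hN _ _ _ _ _ _ hP

/-- **`J(O)` moves `W i`**, both `i`. -/
theorem hJ_of (hML : ML.Final.MLK.{u, u}) (hN : KL.Q.DefG.NoPreG.{u, u}) (hq : 4 ≤ q) {T : Subgroup G} (hBT : B ≤ T)
    (E : QFb Z W B T) (hu : ∀ R : Subgroup G, IsMinPar T R → R ≤ centralizer (Z 0 : Set G) →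
      ¬ R ≤ normalizer (Z 1 : Set G) → R ≤ normalizer (W 1 : Set G)) (hW : ¬ W 0 ≤ Nn Z 0) (i : Fin 2) :
    ∃ A ∈ AA (OO Z), ¬ A ≤ centralizer (W i : Set G) := by
  obtain ⟨A, hA, hm⟩ := hJ_zero h p hTI hnl hML hN hq hBT E hu hW
  rcases fin2 i with rfl | rfl
  · exact ⟨A, hA, hm⟩
  have hO : cj s (OO Z) = OO Z := by
    have h2 : cj s (Z 0 ⊔ Z 1) = Z 0 ⊔ Z 1 := by
      have e : cj s (Z 0 ⊔ Z 1) = cj s (Z 0) ⊔ cj s (Z 1) := Subgroup.map_sup _ _ _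
      rw [e, h.cj_s_Z p, h.cj_s_Z' p, sup_comm]
    have h4 := NO3L.LemP.normalizer_le_normalizer_cent (Z 0 ⊔ Z 1) (mem_normalizer_iff_cj.2 h2)
    exact NOThreeL.Pair.conj_eq_of_mem (Cfsg.Agent.Omega.normalizer_le_normalizer_o2' _ h4)
  refine ⟨cj s A, ?_, fun h1 => hm ?_⟩
  · have h3 := cj_mem_AA s hA
    rwa [hO] at h3
  · rw [← p.ij, ← cj_centralizer, cj_le_iff, cj_inv_cj] at h1
    exact h1

end

end Cfsg.Agent.Omega.KL.QF.HJ

end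

section


/-!
# Row (7) (`k = 2`, `q ≥ 4`, case (E), TI) without the level and without (V!) (helper651)

helper509's `Row7B.MB.false` with (V!) replaced by `hJ` (`KL/QF/HJ.lean`): `J(O)` moves `W i` if `W i ≰ N_i`.

* `MJ S P B ZJ L W Z C q` : `Bg`, `4 ≤ q`, TI, nonlocal, generation by blocks `GenU`, `FixU`;
* **`MJ.false : MLK → Ext → MJ .. → False`**;
* **`eX (hML) (hE) (hT : TiX K) (hW : NoWX K) : EX K fun k q => k = 2 ∧ 4 ≤ q`.**
-/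

set_option autoImplicit false
set_option linter.unusedSectionVars false

namespace Cfsg.Agent.Omega.NO3S.EThree.Row7J

open Subgroup Cfsg Cfsg.Agent.ZN.ChoiceBase
open Cfsg.Agent.ZN (jj zj bau zc zl o2)
open Cfsg.Agent.ZN.ChoiceSit (Syl)
open Cfsg.Agent.Omega.OM
open Cfsg.Agent.Omega.OM.PG.Peel (XW)
open Cfsg.Agent.Omega.OM.PG.TwoI (TA')
open Cfsg.Agent.Omega.Frame (Cls)
open Cfsg.Agent.Omega.NO3S.EThree
open Cfsg.Agent.Omega.NO3S.EThree.Frame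
open Cfsg.Agent.Omega.NO3S.EThree.Row7 (Nn vec2 vec2' fin2)
open Cfsg.Agent.Omega.MinPar (NonLoc)
open Cfsg.Agent.Omega.TCQ.R
open Cfsg.Agent.Omega.KL.QF (QFr QFb)
open Cfsg.Agent.Omega.KL.QF.OfBg (GenU FixU uni_a)
open Cfsg.Agent.Omega.KL.QF.PtV (B_le_T)
open Cfsg.Agent.Omega.KL.QF.KInX (NoW weirdK_of)
open Cfsg.Agent.Omega.Node.MultiOf Cfsg.Agent.Omega.Node.MulG Cfsg.Agent.Omega.Node.MulX
open scoped Pointwise

universe u

section

variable {G : Type u} [Group G] [Finite G]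

/-- **The data of row (7), without the level and without (V!).** -/
structure MJ (S : Sylow 2 G) (P B ZJ : Subgroup G) (L W Z C : Fin 2 → Subgroup G) (q : ℕ) : Prop where
  bg : Bg S P B ZJ L W Z C q
  hq : 4 ≤ q
  ti : ∀ i, TI (Z i)
  nonloc : NonLoc (normalizer (Z 0 : Set G)) (normalizer (Z 1 : Set G))
  gen : GenU (S : Subgroup G) B ZJ W Z q 0 1
  fix : FixU (S : Subgroup G) P W Z 0 1

namespace MJ

variable {S : Sylow 2 G} {P B ZJ : Subgroup G} {L W Z C : Fin 2 → Subgroup G} {q : ℕ}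
  (h : MJ S P B ZJ L W Z C q)
include h

theorem fq : FQ Z W B q := FQ.of_bg h.bg (h.ti 0) h.nonloc

theorem exists_pa : ∃ s, Pa (S : Subgroup G) W 0 1 s := KL.QF.HJ.exists_pa h.bg

/-- UNI, weak form -/
theorem uni : UniQ Z W B := by
  obtain ⟨s, p⟩ := h.exists_pa
  exact Row7B.uniQ_of_gen h.bg p h.gen

theorem qfb : QFb Z W B ((S : Subgroup G) ⊓ centralizer (Z 0 : Set G)) := by
  obtain ⟨s, p⟩ := h.exists_pa
  exact KL.QF.HJ.qfb_of h.bg p (h.ti 0) h.nonloc h.gen h.fix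

/-- the swap on `N_i` -/
theorem cj_N {s : G} (p : Pa (S : Subgroup G) W 0 1 s) : cj s (Nn Z 0) = Nn Z 1 := by
  have h1 : PG.NN Z (cj s (Z 0)) = cj s (PG.NN Z (Z 0)) := PG.NN_conj s (Z 0)
  rw [h.bg.cj_s_Z p] at h1
  exact h1.symm

theorem le_iff : W 0 ≤ Nn Z 0 ↔ W 1 ≤ Nn Z 1 := by
  obtain ⟨s, p⟩ := h.exists_pa
  have e1 := h.cj_N p
  constructor
  · intro h1
    rw [← e1, ← p.ij]
    exact cj_mono s h1
  · intro h1
    have h2 : cj s (W 0) ≤ cj s (Nn Z 0) := by rw [e1, p.ij]; exact h1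
    rwa [cj_le_iff, cj_inv_cj] at h2

theorem rad (h0 : Z 0 ≤ Nn Z 0) (i : Fin 2) : Z i ≤ Nn Z i := by
  rcases fin2 i with rfl | rfl
  · exact h0
  obtain ⟨s, p⟩ := h.exists_pa
  rw [← h.bg.cj_s_Z p, ← h.cj_N p]
  exact cj_mono s h0

/-- `1 ≠ [N_0, N_1] ≤ Z_0Z_1` is impossible. -/
theorem comm_false (com : ∀ x ∈ Nn Z 0, ∀ y ∈ Nn Z 1, x * y * x⁻¹ * y⁻¹ ∈ Z 0 ⊔ Z 1)
    (nc : ¬ Nn Z 0 ≤ centralizer (Nn Z 1 : Set G)) : False := by
  obtain ⟨s, p⟩ := h.exists_pa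
  refine h.bg.comm_false p (fun l => fin2 l) (h.ti 0) h.nonloc ?_ ?_
  · rw [vec2]
    exact com
  · rw [vec2]
    exact nc

/-- `[N_0, N_1] = 1` if `N_0 ∩ N_1 ≤ Z_0Z_1`. -/
theorem com_of_inter (hi : Nn Z 0 ⊓ Nn Z 1 ≤ Z 0 ⊔ Z 1) : Nn Z 0 ≤ centralizer (Nn Z 1 : Set G) := by
  by_contra nc
  refine h.comm_false (fun x hx y hy => hi ?_) nc
  have hPP : PG.PP Z W := h.fq.toPP
  have a01 : PG.Adj Z (Z 0) (Z 1) := ⟨1, by rw [map_one, one_smul], by rw [map_one, one_smul]⟩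
  have pt0 : PG.IsPt Z (Z 0) := ⟨1, by rw [map_one, one_smul]⟩
  have h1 : Nn Z 0 ≤ PG.HH (Z 1) := (hPP.NN_le_QQ pt0).trans (hPP.QQ_le_HH (hPP.adj_symm a01))
  have h2 : Nn Z 1 ≤ PG.HH (Z 0) := (hPP.NN_le_QQ (hPP.adj_pt a01)).trans (hPP.QQ_le_HH a01)
  refine mem_inf.2 ⟨?_, ?_⟩
  · have e : x * y * x⁻¹ * y⁻¹ = x * (y * x⁻¹ * y⁻¹) := by group
    rw [e]
    exact mul_mem hx ((mem_normalizer_iff.1 (PG.PP.HH_le_NN (Z 0) (h2 hy)) _).1 (inv_mem hx))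
  · exact mul_mem ((mem_normalizer_iff.1 (PG.PP.HH_le_NN (Z 1) (h1 hx)) _).1 hy) (inv_mem hy)

theorem sylU0 : SylU0 Z W :=
  ⟨(S : Subgroup G) ⊓ normalizer (Z 0 : Set G), h.bg.syl 0, by
    rw [h.bg.inf_normalizer 0]; exact inf_le_right⟩

theorem regX : PG.PcQ.RegX Z (XW Z W) := by
  have h2 : 2 < q := lt_of_lt_of_le (by decide) h.hq
  have D : FQ ![Z 0, Z 1] ![W 0, W 1] B q := by
    rw [vec2, vec2]
    exact h.fq
  have h1 := h.bg.regX h2 D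
  rwa [vec2, vec2] at h1

/-- `J(O)` moves `W i` -/
theorem hJ (hML : ML.Final.MLK.{u, u}) (hE : ML.Ex.Two.Ext.{u, u}) (hV : ¬ W 0 ≤ Nn Z 0) (i : Fin 2) :
    ∃ A ∈ AA (OO Z), ¬ A ≤ centralizer (W i : Set G) := by
  obtain ⟨s, p⟩ := h.exists_pa
  refine KL.QF.HJ.hJ_of h.bg p (h.ti 0) h.nonloc hML (KL.Q.EndG.noPreG hML hE) h.hq (B_le_T h.bg 0) h.qfb ?_ hV i
  intro R hR hRC hne
  obtain ⟨L', V', l, hLR, hRL, hb, hV⟩ := h.gen R hR hRC hne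
  exact (uni_a h.bg p (fun l => fin2 l) hRC hLR hRL hb hV).1

/-- LEMMA 0 -/
theorem l0 : PG.PcQ.L0 Z := h.fq.l0 h.bg.wc h.uni

/-- **(A)**: `W i ≰ N_i` is impossible. -/
theorem false_V (hML : ML.Final.MLK.{u, u}) (hE : ML.Ex.Two.Ext.{u, u}) (hV : ∀ i, ¬ W i ≤ Nn Z i) : False := by
  have D := h.fq
  have noD := NoDQ.of_bg h.bg hML (h.ti 0) h.nonloc
  have noQ := NoQQ.of_bg h.bg hML (h.ti 0) h.nonloc
  have noP := NoP.of_bg h.bg hML (h.ti 0) h.nonloc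
  have h2 : 2 < q := lt_of_lt_of_le (by decide) h.hq
  by_cases h0 : Z 0 ≤ Nn Z 0
  · have hrad := h.rad h0
    have hL := Plug.LvIn.of_bgJ h.bg (h.ti 0) h.nonloc (h.hJ hML hE (hV 0))
      fun i K h1 h2 h3 => D.done h.bg.wc h.uni h1 h2 h3
    have h1b : OneB Z W := End.oneB_of D noD noQ hL hrad hV
    have h1a : TA' Z (XW Z W) := PlugA.ta_of D.toPP D.xf noP D.tip
      fun A hA2 hAc hAX hmv hH => End.false_of_H D noD noQ hL (hrad 0) (hV 0) hA2 hAc hAX hmv hH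
    exact D.false_rad noD noQ noP (CoreP.of_bg h.bg) h.com_of_inter hrad h1a h1b
  · refine D.nrTwo noP (D.thmC2_nr h2 h0 h.sylU0 fun K h3 h4 h5 => D.done h.bg.wc h.uni h3 h4 h5) h0 ?_
    exact NrOne.nr_one D h2 h.regX h0 (D.adj (i := 1) (j := 0) (by decide))

/-- **Row (7).** -/
protected theorem false (hML : ML.Final.MLK.{u, u}) (hE : ML.Ex.Two.Ext.{u, u}) : False := by
  by_cases h0 : W 0 ≤ Nn Z 0
  · obtain ⟨s, p⟩ := h.exists_pa
    refine KL.QF.Fin.false_of_qfr h.bg p (fun l => fin2 l) h.hq hML (KL.Q.EndG.noPreG hML hE)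
      (T := (S : Subgroup G) ⊓ centralizer (Z 0 : Set G)) ?_
    rw [vec2, vec2]
    exact h.qfb.qfr h0
  · refine h.false_V hML hE fun i => ?_
    rcases fin2 i with rfl | rfl
    · exact h0
    · exact fun h1 => h0 (h.le_iff.2 h1)

end MJ

end

variable {K : Cls.{u}}

/-- **Row (7) over `MulL`**, from TI and NoW. -/
theorem eX (hML : ML.Final.MLK.{u, u}) (hE : ML.Ex.Two.Ext.{u, u}) (hT : Row7X.TiX K) (hW : Row7X.NoWX K) :
    EX K fun k q => k = 2 ∧ 4 ≤ q := by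
  rintro G _ _ hG S P B ZJ k L W Z C A q - ⟨rfl, hq⟩ hM hN
  have hti := hT G hG S P B ZJ L W Z C A q hq hM hN
  have hg := Row7X.gen hM hti (weirdK_of hM.bg hti (hW G hG S P B ZJ L W Z C A q hq hM hN hti))
  exact ((⟨hM.bg, hq, hti, Row7X.nonloc hM hN, hg.1, hg.2⟩ : MJ S P B ZJ L W Z C q).false hML hE).elim

end Cfsg.Agent.Omega.NO3S.EThree.Row7J

end
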